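import Mathlib.Tactic.IntervalCases
import Mathlib.Tactic.Linarith
import Mathlib.Tactic.Ring

/-!
# Extremal products for abelian permutation groups
-/

set_option autoImplicit false

namespace Cfsg.Agent.PermGp.AbelianPerm

/-- The largest order of an abelian subgroup of `Sₙ`. -/
def bigS : ℕ → ℕ
  | 0 => 1
  | 1 => 1
  | 2 => 2
  | 3 => 3
  | 4 => 4
  | n + 5 => 3 * bigS (n + 2)

/-- The largest order of an abelian subgroup of `Aₙ`. -/
def bigA : ℕ → ℕ
  | 0 => 1
  | 1 => 1
  | 2 => 1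
  | 3 => 3
  | 4 => 4
  | 5 => 5
  | 6 => 9
  | 7 => 12
  | 8 => 16
  | n + 9 => 3 * bigA (n + 6)

theorem bigS_add_three {n : ℕ} (h : 2 ≤ n) : bigS (n + 3) = 3 * bigS n := by
  obtain ⟨k, rfl⟩ := Nat.exists_eq_add_of_le' h
  rw [bigS]

theorem bigA_add_three {n : ℕ} (h : 6 ≤ n) : bigA (n + 3) = 3 * bigA n := by
  obtain ⟨k, rfl⟩ := Nat.exists_eq_add_of_le' h
  rw [bigA]

theorem bigA_pos : ∀ n, 1 ≤ bigA n := fun n => by
  induction n using bigA.induct <;> simp [bigA] <;> omega

theorem le_bigS_add : ∀ n, bigS n ≤ bigS (n + 1) ∧ 2 * bigS n ≤ bigS (n + 2) ∧ 3 * bigS n ≤ bigS (n + 3) := by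
  intro n
  induction n using Nat.strong_induction_on with
  | _ n ih =>
    rcases Nat.lt_or_ge n 5 with h | h
    · interval_cases n <;> simp [bigS]
    · obtain ⟨m, rfl⟩ : ∃ m, n = m + 3 := ⟨n - 3, by omega⟩
      obtain ⟨h1, h2, h3⟩ := ih m (by omega)
      rw [show m + 3 + 1 = (m + 1) + 3 by omega, show m + 3 + 2 = (m + 2) + 3 by omega,
        bigS_add_three (by omega : 2 ≤ m + 1), bigS_add_three (by omega : 2 ≤ m + 2),
        bigS_add_three (by omega : 2 ≤ m), bigS_add_three (by omega : 2 ≤ m + 3),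
        bigS_add_three (by omega : 2 ≤ m)]
      omega

theorem mul_bigS_le : ∀ a m, a * bigS m ≤ bigS (a + m) := by
  intro a
  induction a using Nat.strong_induction_on with
  | _ a ih =>
    intro m
    rcases Nat.lt_or_ge a 4 with h | h
    · obtain ⟨h1, h2, h3⟩ := le_bigS_add m
      interval_cases a
      · simp
      · simpa [add_comm] using h1
      · simpa [add_comm] using h2
      · simpa [add_comm] using h3
    · obtain ⟨b, rfl⟩ : ∃ b, a = b + 2 := ⟨a - 2, by omega⟩
      have h1 := ih b (by omega) m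
      have h2 := (le_bigS_add (b + m)).2.1
      rw [show b + 2 + m = b + m + 2 by omega]
      nlinarith

theorem bigA_step : ∀ n, bigA n ≤ bigA (n + 1) ∧ 3 * bigA n ≤ bigA (n + 3) ∧ 4 * bigA n ≤ bigA (n + 4) ∧
    5 * bigA n ≤ bigA (n + 5) ∧ bigS n ≤ 2 * bigA n := by
  intro n
  induction n using Nat.strong_induction_on with
  | _ n ih =>
    rcases Nat.lt_or_ge n 9 with h | h
    · interval_cases n <;> simp [bigA, bigS]
    · obtain ⟨m, rfl⟩ : ∃ m, n = m + 3 := ⟨n - 3, by omega⟩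
      obtain ⟨h1, h2, h3, h4, h5⟩ := ih m (by omega)
      rw [show m + 3 + 1 = (m + 1) + 3 by omega, show m + 3 + 4 = (m + 4) + 3 by omega,
        show m + 3 + 5 = (m + 5) + 3 by omega,
        bigA_add_three (by omega : 6 ≤ m + 1), bigA_add_three (by omega : 6 ≤ m + 4),
        bigA_add_three (by omega : 6 ≤ m + 5), bigA_add_three (by omega : 6 ≤ m + 3),
        bigA_add_three (by omega : 6 ≤ m), bigS_add_three (by omega : 2 ≤ m)]
      omega

/-- The strict inequalities away from the optimal first steps. -/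
theorem bigA_strict : ∀ n, (2 ≤ n → bigA n < bigA (n + 1)) ∧
    (n = 1 ∨ n = 2 ∨ n = 5 → 3 * bigA n < bigA (n + 3)) ∧
    (n % 3 = 2 ∨ n = 1 → 4 * bigA n < bigA (n + 4)) ∧
    (1 ≤ n → 5 * bigA n < bigA (n + 5)) ∧ (3 ≤ n → bigS n < 2 * bigA n) := by
  intro n
  induction n using Nat.strong_induction_on with
  | _ n ih =>
    rcases Nat.lt_or_ge n 9 with h | h
    · interval_cases n <;> simp [bigA, bigS]
    · obtain ⟨m, rfl⟩ : ∃ m, n = m + 3 := ⟨n - 3, by omega⟩
      obtain ⟨h1, -, h3, h4, h5⟩ := ih m (by omega)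
      rw [show m + 3 + 1 = (m + 1) + 3 by omega, show m + 3 + 4 = (m + 4) + 3 by omega,
        show m + 3 + 5 = (m + 5) + 3 by omega,
        bigA_add_three (by omega : 6 ≤ m + 1), bigA_add_three (by omega : 6 ≤ m + 4),
        bigA_add_three (by omega : 6 ≤ m + 5),
        bigA_add_three (by omega : 6 ≤ m), bigS_add_three (by omega : 2 ≤ m)]
      have := h1 (by omega)
      have := h4 (by omega)
      have := h5 (by omega)
      refine ⟨fun _ => by omega, fun h' => by omega, fun h' => ?_, fun _ => by omega, fun _ => by omega⟩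
      have := h3 (by omega)
      omega

theorem mul_bigA_le : ∀ a m, a % 4 ≠ 2 → a * bigA m ≤ bigA (a + m) := by
  intro a
  induction a using Nat.strong_induction_on with
  | _ a ih =>
    intro m ha
    rcases Nat.lt_or_ge a 6 with h | h
    · obtain ⟨h1, h3, h4, h5, -⟩ := bigA_step m
      interval_cases a
      · simp
      · simpa [add_comm] using h1
      · omega
      · simpa [add_comm] using h3
      · simpa [add_comm] using h4
      · simpa [add_comm] using h5
    · obtain ⟨b, rfl⟩ : ∃ b, a = b + 4 := ⟨a - 4, by omega⟩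
      have h1 := ih b (by omega) m (by omega)
      have h2 := (bigA_step (b + m)).2.2.1
      rw [show b + 4 + m = b + m + 4 by omega]
      nlinarith

/-- An orbit of length `≡ 2 (mod 4)` costs a factor two. -/
theorem half_mul_bigS_le {a m : ℕ} (ha : 2 ∣ a) : a / 2 * bigS m ≤ bigA (a + m) := by
  obtain ⟨b, rfl⟩ := ha
  have h1 := mul_bigS_le (2 * b) m
  have h2 := (bigA_step (2 * b + m)).2.2.2.2
  rw [Nat.mul_div_cancel_left b two_pos]
  nlinarith

theorem half_mul_bigS_lt {a m : ℕ} (ha : 2 ∣ a) (hn : 3 ≤ a + m) : a / 2 * bigS m < bigA (a + m) := by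
  obtain ⟨b, rfl⟩ := ha
  have h1 := mul_bigS_le (2 * b) m
  have h2 := (bigA_strict (2 * b + m)).2.2.2.2 hn
  rw [Nat.mul_div_cancel_left b two_pos]
  nlinarith

/-- The orbit lengths of an optimal group. -/
theorem optimal_step {a m : ℕ} (ha : a % 4 ≠ 2) (ha1 : 1 ≤ a) (hn : 3 ≤ a + m)
    (he : bigA (a + m) ≤ a * bigA m) :
    (a = 3 ∧ m ≠ 1 ∧ m ≠ 2 ∧ m ≠ 5) ∨ (a = 4 ∧ m % 3 ≠ 2 ∧ m ≠ 1) ∨ (a = 5 ∧ m = 0) := by
  obtain ⟨h1, h3, h4, h5, -⟩ := bigA_strict m
  rcases Nat.lt_or_ge a 6 with h | h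
  · interval_cases a
    · have := h1 (by omega)
      rw [Nat.add_comm, one_mul] at he
      omega
    · omega
    · refine Or.inl ⟨rfl, ?_⟩
      rw [Nat.add_comm] at he
      exact ⟨fun e => by have := h3 (Or.inl e); omega, fun e => by have := h3 (Or.inr (Or.inl e)); omega,
        fun e => by have := h3 (Or.inr (Or.inr e)); omega⟩
    · refine Or.inr (Or.inl ⟨rfl, ?_⟩)
      rw [Nat.add_comm] at he
      exact ⟨fun e => by have := h4 (Or.inl e); omega, fun e => by have := h4 (Or.inr e); omega⟩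
    · refine Or.inr (Or.inr ⟨rfl, ?_⟩)
      rw [Nat.add_comm] at he
      by_contra e
      have := h5 (by omega)
      omega
  · exfalso
    obtain ⟨b, rfl⟩ : ∃ b, a = b + 4 := ⟨a - 4, by omega⟩
    have e1 := mul_bigA_le b m (by omega)
    have e2 := (bigA_step (b + m)).2.2.1
    rw [show b + 4 + m = b + m + 4 by omega] at he
    have := bigA_pos m
    have e3 : (b + 4) * bigA m < 4 * (b * bigA m) := by
      rw [← mul_assoc]; exact Nat.mul_lt_mul_of_pos_right (by omega) (by omega)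
    nlinarith

theorem bigS_three_mul (k : ℕ) (hk : 1 ≤ k) :
    bigS (3 * k) = 3 ^ k ∧ bigS (3 * k + 1) = 4 * 3 ^ (k - 1) ∧ bigS (3 * k + 2) = 2 * 3 ^ k := by
  induction k, hk using Nat.le_induction with
  | base => simp [bigS]
  | succ k hk ih =>
    rw [show 3 * (k + 1) = 3 * k + 3 by ring, show 3 * k + 3 + 1 = 3 * k + 1 + 3 by ring,
      show 3 * k + 3 + 2 = 3 * k + 2 + 3 by ring, bigS_add_three (by omega), bigS_add_three (by omega),
      bigS_add_three (by omega), ih.1, ih.2.1, ih.2.2]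
    obtain ⟨j, rfl⟩ : ∃ j, k = j + 1 := ⟨k - 1, by omega⟩
    simp only [Nat.add_sub_cancel]
    refine ⟨by ring, by ring, by ring⟩

theorem bigA_three_mul (k : ℕ) (hk : 2 ≤ k) :
    bigA (3 * k) = 3 ^ k ∧ bigA (3 * k + 1) = 4 * 3 ^ (k - 1) ∧ bigA (3 * k + 2) = 16 * 3 ^ (k - 2) := by
  induction k, hk using Nat.le_induction with
  | base => simp [bigA]
  | succ k hk ih =>
    rw [show 3 * (k + 1) = 3 * k + 3 by ring, show 3 * k + 3 + 1 = 3 * k + 1 + 3 by ring,
      show 3 * k + 3 + 2 = 3 * k + 2 + 3 by ring, bigA_add_three (by omega), bigA_add_three (by omega),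
      bigA_add_three (by omega), ih.1, ih.2.1, ih.2.2]
    obtain ⟨j, rfl⟩ : ∃ j, k = j + 2 := ⟨k - 2, by omega⟩
    refine ⟨by ring, ?_, ?_⟩
    · rw [show j + 2 + 1 - 1 = j + 1 + 1 by omega, show j + 2 - 1 = j + 1 by omega]; ring
    · rw [show j + 2 + 1 - 2 = j + 1 by omega, show j + 2 - 2 = j by omega]; ring

end Cfsg.Agent.PermGp.AbelianPerm
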