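import Cfsg.Agent.Lib.PermGp.AbelianPerm.Arith
import Mathlib.GroupTheory.GroupAction.Quotient
import Mathlib.GroupTheory.Perm.Cycle.Type
import Mathlib.GroupTheory.SpecificGroups.Cyclic
import Mathlib.GroupTheory.Index

/-!
# Abelian permutation groups are bounded by their orbit lengths
-/

set_option autoImplicit false

namespace Cfsg.Agent.PermGp.AbelianPerm

open Equiv MulAction

variable {α : Type*} [Fintype α] [DecidableEq α]

/-- An abelian group of permutations moving only points of `s`. -/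
structure IsAb (s : Finset α) (A : Subgroup (Perm α)) : Prop where
  comm : ∀ g ∈ A, ∀ h ∈ A, g * h = h * g
  supp : ∀ g ∈ A, ∀ z, z ∉ s → g z = z

/-- An abelian group of even permutations moving only points of `s`. -/
structure IsEvAb (s : Finset α) (A : Subgroup (Perm α)) : Prop extends IsAb s A where
  even : ∀ g ∈ A, Perm.sign g = 1

open Classical in
/-- The orbit of a point, as a finite set. -/
noncomputable def orb (A : Subgroup (Perm α)) (x : α) : Finset α :=
  Finset.univ.filter (· ∈ MulAction.orbit A x)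

theorem mem_orb {A : Subgroup (Perm α)} {x y : α} : y ∈ orb A x ↔ ∃ g ∈ A, g x = y := by
  simp only [orb, Finset.mem_filter]
  refine ⟨?_, ?_⟩
  · rintro ⟨-, g, rfl⟩; exact ⟨g, g.2, rfl⟩
  · rintro ⟨g, hg, rfl⟩; exact ⟨Finset.mem_univ _, ⟨g, hg⟩, rfl⟩

theorem self_mem_orb (A : Subgroup (Perm α)) (x : α) : x ∈ orb A x := mem_orb.mpr ⟨1, A.one_mem, rfl⟩

theorem orb_mono {A B : Subgroup (Perm α)} (h : A ≤ B) (x : α) : orb A x ⊆ orb B x := fun y hy => by
  obtain ⟨g, hg, e⟩ := mem_orb.mp hy
  exact mem_orb.mpr ⟨g, h hg, e⟩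

theorem apply_mem_orb_iff {A : Subgroup (Perm α)} {g : Perm α} (hg : g ∈ A) {x z : α} :
    g z ∈ orb A x ↔ z ∈ orb A x := by
  rw [mem_orb, mem_orb]
  constructor
  · rintro ⟨h, hh, e⟩
    exact ⟨g⁻¹ * h, A.mul_mem (A.inv_mem hg) hh, by rw [Perm.mul_apply, e]; simp⟩
  · rintro ⟨h, hh, e⟩
    exact ⟨g * h, A.mul_mem hg hh, by rw [Perm.mul_apply, e]⟩

/-- The point stabiliser. -/
def stab (A : Subgroup (Perm α)) (x : α) : Subgroup (Perm α) := A ⊓ MulAction.stabilizer (Perm α) x

theorem mem_stab {A : Subgroup (Perm α)} {x : α} {g : Perm α} : g ∈ stab A x ↔ g ∈ A ∧ g x = x := Iff.rfl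

theorem card_orb_mul_card_stab (A : Subgroup (Perm α)) (x : α) :
    (orb A x).card * Nat.card (stab A x) = Nat.card A := by
  have h1 : (orb A x).card = (MulAction.orbit A x).ncard := by
    rw [← Set.ncard_coe_finset]
    congr 1
    ext y
    simp [orb]
  have h2 : Nat.card (stab A x) = Nat.card (MulAction.stabilizer A x) :=
    Nat.card_congr
      { toFun := fun g => ⟨⟨g.1, g.2.1⟩, g.2.2⟩
        invFun := fun g => ⟨g.1.1, g.1.2, g.2⟩
        left_inv := fun _ => rfl
        right_inv := fun _ => rfl }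
  rw [h1, h2, ← MulAction.index_stabilizer, mul_comm, Subgroup.card_mul_index]

namespace IsAb

variable {s : Finset α} {A : Subgroup (Perm α)} (hA : IsAb s A) {x : α} (hx : x ∈ s)

include hA in
theorem fix_orb {g : Perm α} (hg : g ∈ stab A x) {z : α} (hz : z ∈ orb A x) : g z = z := by
  obtain ⟨h, hh, rfl⟩ := mem_orb.mp hz
  rw [← Perm.mul_apply, hA.comm g hg.1 h hh, Perm.mul_apply, (mem_stab.mp hg).2]

include hA hx in
theorem orb_subset : orb A x ⊆ s := fun y hy => by
  obtain ⟨g, hg, rfl⟩ := mem_orb.mp hy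
  by_contra h
  exact h ((g.injective (hA.supp g hg _ h)).symm ▸ hx)

include hA in
theorem apply_mem_iff {g : Perm α} (hg : g ∈ A) {z : α} : g z ∈ s ↔ z ∈ s := by
  constructor
  · intro h; by_contra hz; exact hz (hA.supp g hg z hz ▸ h)
  · intro h; by_contra hz; exact hz ((g.injective (hA.supp g hg _ hz)).symm ▸ h)

include hA in
theorem isAb_stab : IsAb (s \ orb A x) (stab A x) :=
  ⟨fun g hg h hh => hA.comm g hg.1 h hh.1, fun g hg z hz => by
    by_cases h : z ∈ orb A x
    · exact hA.fix_orb hg h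
    · exact hA.supp g hg.1 z fun h' => hz (Finset.mem_sdiff.mpr ⟨h', h⟩)⟩

include hA hx in
theorem card_sdiff_orb : (s \ orb A x).card + (orb A x).card = s.card :=
  Finset.card_sdiff_add_card_eq_card (hA.orb_subset hx)

end IsAb

theorem IsEvAb.isEvAb_stab {s : Finset α} {A : Subgroup (Perm α)} (hA : IsEvAb s A) (x : α) :
    IsEvAb (s \ orb A x) (stab A x) :=
  ⟨hA.toIsAb.isAb_stab, fun g hg => hA.even g hg.1⟩

theorem IsAb.eq_bot_of_card_le_one {s : Finset α} {A : Subgroup (Perm α)} (hA : IsAb s A)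
    (hs : s.card ≤ 1) : A = ⊥ := by
  rw [Subgroup.eq_bot_iff_forall]
  intro g hg
  ext z
  by_cases hz : z ∈ s
  · exact Finset.card_le_one.mp hs _ ((hA.apply_mem_iff hg).mpr hz) _ hz
  · exact hA.supp g hg z hz

theorem card_le_bigS : ∀ (n : ℕ) (s : Finset α) (A : Subgroup (Perm α)), s.card = n → IsAb s A →
    Nat.card A ≤ bigS n := by
  intro n
  induction n using Nat.strong_induction_on with
  | _ n ih =>
    intro s A hs hA
    rcases Nat.eq_zero_or_pos n with rfl | hn
    · rw [hA.eq_bot_of_card_le_one (by omega), Subgroup.card_bot]; simp [bigS]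
    · obtain ⟨x, hx⟩ := Finset.card_pos.mp (hs.symm ▸ hn)
      have h1 := hA.card_sdiff_orb hx
      have h2 : 0 < (orb A x).card := Finset.card_pos.mpr ⟨x, self_mem_orb A x⟩
      have h3 := ih _ (by omega) (s \ orb A x) (stab A x) rfl hA.isAb_stab
      rw [← card_orb_mul_card_stab A x]
      refine (Nat.mul_le_mul le_rfl h3).trans ((mul_bigS_le _ _).trans ?_)
      rw [show (orb A x).card + (s \ orb A x).card = n by omega]

/-- Restriction of the group to the complement of an orbit. -/
noncomputable def rest (A : Subgroup (Perm α)) (x : α) : A →* Perm α :=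
  (Perm.ofSubtype (p := fun z => z ∉ orb A x)).comp
    { toFun := fun g => g.1.subtypePerm fun _ => (apply_mem_orb_iff g.2).not
      map_one' := Equiv.ext fun _ => rfl
      map_mul' := fun _ _ => Equiv.ext fun _ => rfl }

theorem rest_apply_of_notMem {A : Subgroup (Perm α)} {x z : α} (g : A) (hz : z ∉ orb A x) :
    rest A x g z = g.1 z :=
  Perm.ofSubtype_apply_of_mem (p := fun z => z ∉ orb A x) _ hz

theorem rest_apply_of_mem {A : Subgroup (Perm α)} {x z : α} (g : A) (hz : z ∈ orb A x) :
    rest A x g z = z :=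
  Perm.ofSubtype_apply_of_not_mem (p := fun z => z ∉ orb A x) _ (not_not.mpr hz)

theorem mem_ker_rest {A : Subgroup (Perm α)} {x : α} (g : A) :
    g ∈ (rest A x).ker ↔ ∀ z, z ∉ orb A x → g.1 z = z := by
  constructor
  · intro h z hz
    rw [← rest_apply_of_notMem g hz, show rest A x g = 1 from h]; rfl
  · intro h
    ext z
    by_cases hz : z ∈ orb A x
    · rw [rest_apply_of_mem g hz]; rfl
    · rw [rest_apply_of_notMem g hz, h z hz]; rfl

variable {s : Finset α} {A : Subgroup (Perm α)}

theorem IsAb.rest_eq_self (hA : IsAb s A) {x : α} {g : Perm α} (hg : g ∈ stab A x) :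
    rest A x ⟨g, hg.1⟩ = g := by
  ext z
  by_cases hz : z ∈ orb A x
  · rw [rest_apply_of_mem _ hz, hA.fix_orb hg hz]
  · rw [rest_apply_of_notMem _ hz]

theorem IsAb.eq_one_of_mem_ker_rest (hA : IsAb s A) {x : α} {g : A} (h : g ∈ (rest A x).ker)
    {z : α} (hz : z ∈ orb A x) (hgz : g.1 z = z) : g = 1 := by
  obtain ⟨k, hk, rfl⟩ := mem_orb.mp hz
  have hx : g.1 ∈ stab A x := mem_stab.mpr ⟨g.2, k.injective (by
    rw [← Perm.mul_apply, ← hA.comm g.1 g.2 k hk, Perm.mul_apply]; exact hgz)⟩
  have : rest A x g = g.1 := hA.rest_eq_self hx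
  exact Subtype.ext (this.symm.trans h)

theorem IsAb.isAb_rest (hA : IsAb s A) (x : α) : IsAb (s \ orb A x) (rest A x).range := by
  refine ⟨?_, ?_⟩
  · rintro _ ⟨g, rfl⟩ _ ⟨h, rfl⟩
    rw [← map_mul, ← map_mul, show g * h = h * g from Subtype.ext (hA.comm g g.2 h h.2)]
  · rintro _ ⟨g, rfl⟩ z hz
    by_cases h : z ∈ orb A x
    · exact rest_apply_of_mem g h
    · rw [rest_apply_of_notMem g h]
      exact hA.supp g g.2 z fun h' => hz (Finset.mem_sdiff.mpr ⟨h', h⟩)

theorem card_eq_ker_mul_range (A : Subgroup (Perm α)) (x : α) :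
    Nat.card A = Nat.card (rest A x).ker * Nat.card (rest A x).range := by
  rw [← Subgroup.index_ker, Subgroup.card_mul_index]

theorem IsAb.card_ker_dvd (hA : IsAb s A) (x : α) : Nat.card (rest A x).ker ∣ (orb A x).card := by
  haveI : (MulAction.stabilizer A x).Normal :=
    ⟨fun n hn g => by
      rw [show g * n * g⁻¹ = n from Subtype.ext (by
        show g.1 * n.1 * g.1⁻¹ = n.1
        rw [hA.comm g.1 g.2 n.1 n.2, mul_inv_cancel_right])]
      exact hn⟩
  have h := Subgroup.card_dvd_of_injective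
    ((QuotientGroup.mk' (MulAction.stabilizer A x)).comp (rest A x).ker.subtype) ((injective_iff_map_eq_one _).mpr fun k hk => by
      have hk' : k.1 ∈ MulAction.stabilizer A x := (QuotientGroup.eq_one_iff _).mp hk
      exact Subtype.ext (hA.eq_one_of_mem_ker_rest k.2 (self_mem_orb A x) hk'))
  rw [← Subgroup.index, MulAction.index_stabilizer] at h
  convert h using 1
  rw [← Set.ncard_coe_finset]
  congr 1
  ext y
  simp [orb]

theorem IsEvAb.card_ker_lt (hA : IsEvAb s A) (x : α) (ha : (orb A x).card % 4 = 2) :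
    Nat.card (rest A x).ker ≤ (orb A x).card / 2 := by
  obtain ⟨c, hc⟩ := hA.toIsAb.card_ker_dvd x
  have hc2 : c ≠ 1 := by
    rintro rfl
    rw [mul_one] at hc
    haveI : Fact (Nat.Prime 2) := ⟨Nat.prime_two⟩
    obtain ⟨g, hg⟩ := exists_prime_orderOf_dvd_card' (G := (rest A x).ker) 2 (by omega)
    have hord : orderOf g.1.1 = 2 := by rw [Subgroup.orderOf_coe, Subgroup.orderOf_coe, hg]
    have hne : g.1 ≠ 1 := fun e => by rw [e, OneMemClass.coe_one, orderOf_one] at hord; omega
    have hsupp : g.1.1.support = orb A x := by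
      ext z
      rw [Perm.mem_support]
      constructor
      · intro h; by_contra hz; exact h ((mem_ker_rest g.1).mp g.2 z hz)
      · intro hz h; exact hne (hA.toIsAb.eq_one_of_mem_ker_rest g.2 hz h)
    obtain ⟨k, hk⟩ := Perm.cycleType_prime_order (hord ▸ Nat.prime_two)
    have hs := Perm.sum_cycleType g.1.1
    have he := hA.even g.1.1 g.1.2
    rw [Perm.sign_of_cycleType, hk, hord, Multiset.sum_replicate, Multiset.card_replicate,
      smul_eq_mul] at he
    rw [hk, hord, Multiset.sum_replicate, smul_eq_mul, hsupp] at hs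
    have hodd : Odd ((k + 1) * 2 + (k + 1)) := Nat.odd_iff.mpr (by omega)
    rw [hodd.neg_one_pow] at he
    exact absurd he (by decide)
  have hpos : 0 < Nat.card (rest A x).ker := Nat.card_pos
  rcases c with _ | _ | c
  · omega
  · exact absurd rfl hc2
  · rw [Nat.le_div_iff_mul_le two_pos, hc]
    exact Nat.mul_le_mul le_rfl (by omega)

theorem card_le_bigA : ∀ (n : ℕ) (s : Finset α) (A : Subgroup (Perm α)), s.card = n → IsEvAb s A →
    Nat.card A ≤ bigA n := by
  intro n
  induction n using Nat.strong_induction_on with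
  | _ n ih =>
    intro s A hs hA
    rcases Nat.eq_zero_or_pos n with rfl | hn
    · rw [hA.toIsAb.eq_bot_of_card_le_one (by omega), Subgroup.card_bot]; simp [bigA]
    · obtain ⟨x, hx⟩ := Finset.card_pos.mp (hs.symm ▸ hn)
      have h1 := hA.toIsAb.card_sdiff_orb hx
      have h2 : 0 < (orb A x).card := Finset.card_pos.mpr ⟨x, self_mem_orb A x⟩
      have hsum : (orb A x).card + (s \ orb A x).card = n := by omega
      by_cases ha : (orb A x).card % 4 = 2
      · rw [card_eq_ker_mul_range A x]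
        refine (Nat.mul_le_mul (hA.card_ker_lt x ha)
          (card_le_bigS _ _ _ rfl (hA.toIsAb.isAb_rest x))).trans ?_
        exact (half_mul_bigS_le (by omega)).trans (le_of_eq (by rw [hsum]))
      · have h3 := ih _ (by omega) (s \ orb A x) (stab A x) rfl (hA.isEvAb_stab x)
        rw [← card_orb_mul_card_stab A x]
        exact (Nat.mul_le_mul le_rfl h3).trans ((mul_bigA_le _ _ ha).trans (le_of_eq (by rw [hsum])))

end Cfsg.Agent.PermGp.AbelianPerm
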