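import Cfsg.Agent.Lib.PermGp.AbelianPerm.Witness
import Mathlib.GroupTheory.SpecificGroups.KleinFour
import Mathlib.GroupTheory.Perm.ViaEmbedding

/-!
# The extremal abelian groups of even permutations are conjugate
-/

set_option autoImplicit false

namespace Cfsg.Agent.PermGp.AbelianPerm

open Equiv MulAction

variable {α : Type*} [Fintype α] [DecidableEq α]

/-- An extremal abelian group of even permutations of `s`. -/
structure IsOpt (s : Finset α) (A : Subgroup (Perm α)) : Prop extends IsEvAb s A where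
  card_eq : Nat.card A = bigA s.card

/-- The part of the group living on one orbit. -/
noncomputable def kerOrb (A : Subgroup (Perm α)) (x : α) : Subgroup (Perm α) :=
  (rest A x).ker.map A.subtype

theorem mem_kerOrb {A : Subgroup (Perm α)} {x : α} {g : Perm α} :
    g ∈ kerOrb A x ↔ g ∈ A ∧ ∀ z, z ∉ orb A x → g z = z := by
  constructor
  · rintro ⟨k, hk, rfl⟩; exact ⟨k.2, (mem_ker_rest k).mp hk⟩
  · rintro ⟨hg, h⟩; exact ⟨⟨g, hg⟩, (mem_ker_rest (⟨g, hg⟩ : A)).mpr h, rfl⟩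

theorem IsAb.kerOrb_eq_one {s : Finset α} {A : Subgroup (Perm α)} (hA : IsAb s A) {x : α} {g : Perm α}
    (hg : g ∈ kerOrb A x) {z : α} (hz : z ∈ orb A x) (hgz : g z = z) : g = 1 := by
  obtain ⟨k, hk, rfl⟩ := hg
  rw [hA.eq_one_of_mem_ker_rest hk hz hgz, map_one]

variable {s t : Finset α} {A B : Subgroup (Perm α)}

/-- What extremality says about one orbit. -/
structure Step (s : Finset α) (A : Subgroup (Perm α)) (x : α) : Prop where
  sizes : ((orb A x).card = 3 ∧ (s \ orb A x).card ≠ 1 ∧ (s \ orb A x).card ≠ 2 ∧ (s \ orb A x).card ≠ 5) ∨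
    ((orb A x).card = 4 ∧ (s \ orb A x).card % 3 ≠ 2 ∧ (s \ orb A x).card ≠ 1) ∨
    ((orb A x).card = 5 ∧ (s \ orb A x).card = 0)
  opt : IsOpt (s \ orb A x) (stab A x)
  card_ker : Nat.card (kerOrb A x) = (orb A x).card
  decomp : ∀ g ∈ A, ∃ k ∈ kerOrb A x, ∃ r ∈ stab A x, g = k * r

theorem IsOpt.step (hA : IsOpt s A) (hn : 3 ≤ s.card) {x : α} (hx : x ∈ s) : Step s A x := by
  set a := (orb A x).card with ha
  set m := (s \ orb A x).card with hm
  have hab := hA.toIsEvAb.toIsAb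
  have hsum : a + m = s.card := by have := hab.card_sdiff_orb hx; omega
  have ha1 : 1 ≤ a := Finset.card_pos.mpr ⟨x, self_mem_orb A x⟩
  have ha2 : a % 4 ≠ 2 := fun h => by
    have h1 := Nat.mul_le_mul (hA.toIsEvAb.card_ker_lt x h) (card_le_bigS _ _ _ rfl (hab.isAb_rest x))
    rw [← card_eq_ker_mul_range A x, hA.card_eq, ← hsum] at h1
    exact absurd (lt_of_le_of_lt h1 (half_mul_bigS_lt (by omega) (by omega))) (lt_irrefl _)
  have hstab := hA.toIsEvAb.isEvAb_stab x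
  have h1 : Nat.card (stab A x) ≤ bigA m := card_le_bigA _ _ _ rfl hstab
  have h2 := card_orb_mul_card_stab A x
  rw [hA.card_eq, ← hsum, ← ha] at h2
  have h3 : bigA (a + m) ≤ a * bigA m := h2 ▸ Nat.mul_le_mul le_rfl h1
  have hsizes := optimal_step ha2 ha1 (by omega) h3
  have h4 : Nat.card (stab A x) = bigA m := le_antisymm h1 (by
    have := mul_bigA_le a m ha2
    exact Nat.le_of_mul_le_mul_left (this.trans h2.ge) ha1)
  have hsub : stab A x ≤ (rest A x).range := fun g hg => ⟨⟨g, hg.1⟩, hab.rest_eq_self hg⟩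
  have hev : ∀ g ∈ (rest A x).range, Perm.sign g = 1 := by
    intro g hg
    by_contra hodd
    have hlt : stab A x < (rest A x).range :=
      lt_of_le_of_ne hsub fun e => hodd (hA.even g (show g ∈ stab A x from e.symm ▸ hg).1)
    obtain ⟨c, hc⟩ := Subgroup.card_dvd_of_le hlt.le
    have hc2 : 2 ≤ c := by
      rcases c with _ | _ | c
      · rw [mul_zero] at hc; exact absurd hc Nat.card_pos.ne'
      · exact absurd (Subgroup.eq_of_le_of_card_ge hlt.le (by rw [hc]; simp)) hlt.ne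
      · omega
    have hS := card_le_bigS _ _ _ rfl (hab.isAb_rest x)
    rw [hc, h4, ← hm] at hS
    rcases Nat.lt_or_ge m 3 with hm3 | hm3
    · have hm0 : m = 0 := by omega
      have := (hab.isAb_rest x).eq_bot_of_card_le_one (by omega)
      rw [this, Subgroup.mem_bot] at hg
      exact hodd (hg ▸ map_one _)
    · have := (bigA_strict m).2.2.2.2 hm3
      have := Nat.mul_le_mul_left (bigA m) hc2
      omega
  have heq : stab A x = (rest A x).range := Subgroup.eq_of_le_of_card_ge hsub (by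
    rw [h4]; exact card_le_bigA _ _ _ rfl ⟨hab.isAb_rest x, hev⟩)
  refine ⟨hsizes, ⟨hstab, h4⟩, ?_, ?_⟩
  · have h5 := card_eq_ker_mul_range A x
    rw [← heq, ← card_orb_mul_card_stab A x] at h5
    rw [kerOrb, Subgroup.card_map_of_injective A.subtype_injective]
    exact (Nat.eq_of_mul_eq_mul_right Nat.card_pos h5).symm
  · intro g hg
    have hr : rest A x ⟨g, hg⟩ ∈ stab A x := heq ▸ ⟨_, rfl⟩
    refine ⟨g * (rest A x ⟨g, hg⟩)⁻¹, mem_kerOrb.mpr ⟨A.mul_mem hg (A.inv_mem hr.1), ?_⟩, _, hr,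
      by rw [inv_mul_cancel_right]⟩
    refine (mem_ker_rest (⟨_, A.mul_mem hg (A.inv_mem hr.1)⟩ : A)).mp ?_
    show rest A x (⟨g, hg⟩ * (⟨rest A x ⟨g, hg⟩, hr.1⟩ : A)⁻¹) = 1
    rw [map_mul, map_inv, hab.rest_eq_self hr, mul_inv_cancel]

theorem Step.klein {x : α} (hA : IsOpt s A) (h : Step s A x) (h4 : (orb A x).card = 4) :
    IsKleinFour (kerOrb A x) := by
  have hcard : Nat.card (kerOrb A x) = 4 := h.card_ker.trans h4
  haveI : Nontrivial (kerOrb A x) := Finite.one_lt_card_iff_nontrivial.mp (by omega)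
  refine ⟨hcard, ?_⟩
  rw [Monoid.exponent_eq_prime_iff Nat.prime_two]
  intro g hg
  have hg1 : g.1 ≠ 1 := fun e => hg (Subtype.ext e)
  obtain ⟨hgA, hout⟩ := mem_kerOrb.mp g.2
  have hsupp : g.1.support = orb A x := by
    ext z
    rw [Perm.mem_support]
    constructor
    · intro h; by_contra hz; exact h (hout z hz)
    · intro hz h; exact hg1 (hA.toIsEvAb.toIsAb.kerOrb_eq_one g.2 hz h)
  have hsum := Perm.sum_cycleType g.1
  rw [hsupp, h4] at hsum
  have he := hA.even g.1 hgA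
  rw [Perm.sign_of_cycleType, hsum, neg_one_pow_eq_one_iff_even (by decide)] at he
  have hlen : Multiset.card g.1.cycleType • 2 ≤ g.1.cycleType.sum :=
    Multiset.card_nsmul_le_sum fun _ h => Perm.two_le_of_mem_cycleType h
  rw [hsum, smul_eq_mul] at hlen
  have h0 : Multiset.card g.1.cycleType ≠ 0 := fun e => by
    rw [Multiset.card_eq_zero] at e; rw [e] at hsum; simp at hsum
  obtain ⟨e, he⟩ := he
  have h2 : Multiset.card g.1.cycleType = 2 := by omega
  obtain ⟨p, q, hpq⟩ := Multiset.card_eq_two.mp h2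
  have hp := Perm.two_le_of_mem_cycleType (σ := g.1) (n := p) (by rw [hpq]; simp)
  have hq := Perm.two_le_of_mem_cycleType (σ := g.1) (n := q) (by rw [hpq]; simp)
  rw [hpq] at hsum
  simp at hsum
  obtain ⟨rfl, rfl⟩ : p = 2 ∧ q = 2 := ⟨by omega, by omega⟩
  rw [← Subgroup.orderOf_coe, ← Perm.lcm_cycleType, hpq]
  rfl

theorem Step.nonempty_equiv {x y : α} (hA : IsOpt s A) (h : Step s A x) (hB : IsOpt t B) (h' : Step t B y)
    (he : (orb A x).card = (orb B y).card) : Nonempty (kerOrb A x ≃* kerOrb B y) := by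
  have key : ∀ {p : ℕ}, p.Prime → (orb A x).card = p → Nonempty (kerOrb A x ≃* kerOrb B y) := fun {p} hp e => by
    haveI := Fact.mk hp
    exact ⟨mulEquivOfPrimeCardEq (h.card_ker.trans e) (h'.card_ker.trans (he ▸ e))⟩
  rcases h.sizes with ⟨e, -⟩ | ⟨e, -⟩ | ⟨e, -⟩
  · exact key (by decide) e
  · haveI := h.klein hA e
    haveI := h'.klein hB (he ▸ e)
    exact IsKleinFour.nonempty_mulEquiv
  · exact key (by decide) e

/-- An automorphism of the orbit part which is an odd permutation. -/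
theorem Step.odd_aut {x : α} (hA : IsOpt s A) (h : Step s A x) [Fintype (kerOrb A x)]
    [DecidableEq (kerOrb A x)] :
    ∃ θ : kerOrb A x ≃* kerOrb A x, Perm.sign θ.toEquiv = -1 := by
  have key : ∀ {M : Type} [Group M] [Fintype M] [DecidableEq M] (θ₀ : M ≃* M),
      Perm.sign θ₀.toEquiv = -1 → Nonempty (kerOrb A x ≃* M) →
      ∃ θ : kerOrb A x ≃* kerOrb A x, Perm.sign θ.toEquiv = -1 := by
    intro M _ _ _ θ₀ hθ ⟨e⟩
    refine ⟨(e.trans θ₀).trans e.symm, ?_⟩
    rw [← hθ, ← Perm.sign_permCongr e.toEquiv.symm θ₀.toEquiv]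
    rfl
  rcases h.sizes with ⟨e, -⟩ | ⟨e, -⟩ | ⟨e, -⟩
  · haveI : Fact (Nat.Prime 3) := ⟨by decide⟩
    exact key (MulEquiv.inv (Multiplicative (ZMod 3))) (by decide)
      ⟨mulEquivOfPrimeCardEq (h.card_ker.trans e) (by simp)⟩
  · haveI := h.klein hA e
    exact key (AddEquiv.toMultiplicative (AddEquiv.prodComm : ZMod 2 × ZMod 2 ≃+ ZMod 2 × ZMod 2)) (by decide)
      IsKleinFour.nonempty_mulEquiv
  · haveI : Fact (Nat.Prime 5) := ⟨by decide⟩
    exact key (M := Multiplicative (ZMod 5))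
      { toFun := fun g => g ^ 2
        invFun := fun g => g ^ 3
        left_inv := by decide
        right_inv := by decide
        map_mul' := by decide } (by decide)
      ⟨mulEquivOfPrimeCardEq (h.card_ker.trans e) (by simp)⟩

/-- The orbit is a copy of the orbit part. -/
theorem Step.exists_bij {x : α} (hA : IsOpt s A) (h : Step s A x) :
    ∃ b : kerOrb A x ≃ {z // z ∈ orb A x}, ∀ k, (b k : α) = k.1 x := by
  have hmem : ∀ k : kerOrb A x, k.1 x ∈ orb A x := fun k =>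
    mem_orb.mpr ⟨k.1, (mem_kerOrb.mp k.2).1, rfl⟩
  let f : kerOrb A x → {z // z ∈ orb A x} := fun k => ⟨k.1 x, hmem k⟩
  have hinj : Function.Injective f := by
    intro k l e
    have e' : k.1 x = l.1 x := congrArg Subtype.val e
    have := hA.toIsEvAb.toIsAb.kerOrb_eq_one ((kerOrb A x).mul_mem ((kerOrb A x).inv_mem l.2) k.2)
      (self_mem_orb A x) (by rw [Perm.mul_apply, e']; simp)
    exact (inv_mul_eq_one.mp (Subtype.ext this : l⁻¹ * k = 1)).symm
  exact ⟨Equiv.ofBijective f (hinj.bijective_of_nat_card_le (by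
    rw [h.card_ker, Nat.card_eq_fintype_card, Fintype.card_coe])), fun k => rfl⟩

theorem IsOpt.exists_odd_normalizing (hA : IsOpt s A) (hn : 3 ≤ s.card) :
    ∃ τ : Perm α, Perm.sign τ = -1 ∧ ∀ g ∈ A, τ * g * τ⁻¹ ∈ A := by
  classical
  obtain ⟨x, hx⟩ := Finset.card_pos.mp (by omega : 0 < s.card)
  have h := hA.step hn hx
  obtain ⟨b, hb⟩ := h.exists_bij hA
  obtain ⟨θ, hθ⟩ := h.odd_aut hA
  let ι : kerOrb A x ↪ α := b.toEmbedding.trans (Function.Embedding.subtype _)
  have hι : ∀ k, ι k = k.1 x := hb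
  set τ := Perm.viaEmbedding θ.toEquiv ι with hτ
  have hrange : ∀ z, z ∈ Set.range ι ↔ z ∈ orb A x := fun z =>
    ⟨fun ⟨k, hk⟩ => hk ▸ (b k).2, fun hz => ⟨b.symm ⟨z, hz⟩, congrArg Subtype.val (b.apply_symm_apply _)⟩⟩
  have hτin : ∀ k, τ (ι k) = ι (θ k) := fun k => Perm.viaEmbedding_apply θ.toEquiv ι k
  have hτout : ∀ z, z ∉ orb A x → τ z = z := fun z hz =>
    Perm.viaEmbedding_apply_of_notMem θ.toEquiv ι z fun h => hz ((hrange z).mp h)
  have hτorb : ∀ z, z ∈ orb A x → τ z ∈ orb A x := fun z hz => by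
    obtain ⟨k, rfl⟩ := (hrange z).mpr hz
    rw [hτin]; exact (hrange _).mp ⟨_, rfl⟩
  refine ⟨τ, ?_, fun g hg => ?_⟩
  · rw [← hθ, hτ]; convert Perm.sign_extendDomain θ.toEquiv (Equiv.ofInjective ι ι.injective) using 2; ext z; by_cases hz : z ∈ Set.range ι
    · obtain ⟨k, rfl⟩ := hz
      rw [Perm.viaEmbedding_apply]
      exact (Perm.extendDomain_apply_image θ.toEquiv (Equiv.ofInjective ι ι.injective) k).symm
    · rw [Perm.viaEmbedding_apply_of_notMem _ _ _ hz, Perm.extendDomain_apply_not_subtype _ _ hz]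
  obtain ⟨k, hk, r, hr, rfl⟩ := h.decomp g hg
  have hkA := (mem_kerOrb.mp hk).1
  have h1 : τ * k = (θ ⟨k, hk⟩).1 * τ := by
    ext z
    rw [Perm.mul_apply, Perm.mul_apply]
    by_cases hz : z ∈ orb A x
    · obtain ⟨l, rfl⟩ := (hrange z).mpr hz
      have e1 : k (ι l) = ι (⟨k, hk⟩ * l) := by rw [hι, hι, Subgroup.coe_mul, Perm.mul_apply]
      rw [e1, hτin, hτin, hι, hι, map_mul, Subgroup.coe_mul, Perm.mul_apply]
    · rw [(mem_kerOrb.mp hk).2 z hz, hτout z hz, (mem_kerOrb.mp (θ ⟨k, hk⟩).2).2 z hz]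
  have h2 : τ * r = r * τ := by
    ext z
    rw [Perm.mul_apply, Perm.mul_apply]
    by_cases hz : z ∈ orb A x
    · rw [hA.toIsEvAb.toIsAb.fix_orb hr hz, hA.toIsEvAb.toIsAb.fix_orb hr (hτorb z hz)]
    · rw [hτout z hz, hτout _ fun h' => hz ((apply_mem_orb_iff hr.1).mp h')]
  rw [← mul_assoc, h1, mul_assoc (θ ⟨k, hk⟩).1, h2, ← mul_assoc, mul_inv_cancel_right]
  exact A.mul_mem (mem_kerOrb.mp (θ ⟨k, hk⟩).2).1 hr.1

/-- The orbit length used in the induction. -/
def special (n : ℕ) : ℕ := if n = 5 then 5 else if n % 3 = 0 then 3 else 4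

theorem IsOpt.exists_special : ∀ (n : ℕ) (s : Finset α) (A : Subgroup (Perm α)), s.card = n → 3 ≤ n →
    IsOpt s A → ∃ x ∈ s, (orb A x).card = special n := by
  intro n
  induction n using Nat.strong_induction_on with
  | _ n ih =>
    intro s A hs hn hA
    obtain ⟨x, hx⟩ := Finset.card_pos.mp (by omega : 0 < s.card)
    have h := hA.step (by omega) hx
    have hsum := hA.toIsEvAb.toIsAb.card_sdiff_orb hx
    by_cases hsp : (orb A x).card = special n
    · exact ⟨x, hx, hsp⟩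
    have hcase : (orb A x).card = 3 ∧ n % 3 ≠ 0 ∧ n ≠ 5 ∧ 6 ≤ n ∧ n ≠ 8 := by
      rcases h.sizes with ⟨h1, h2, h3, h4⟩ | ⟨h1, h2, h3⟩ | ⟨h1, h2⟩ <;>
        simp only [special, h1] at hsp <;> split_ifs at hsp <;> omega
    obtain ⟨z, hz, hz'⟩ := ih _ (by omega) (s \ orb A x) (stab A x) rfl (by omega) h.opt
    rw [Finset.mem_sdiff] at hz
    refine ⟨z, hz.1, ?_⟩
    have hle := Finset.card_le_card (orb_mono (A := stab A x) (B := A) (fun g hg => hg.1) z)
    rw [hz'] at hle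
    have h' := hA.step (by omega) hz.1
    have hsum' := hA.toIsEvAb.toIsAb.card_sdiff_orb hz.1
    unfold special at hle ⊢
    rw [if_neg (by omega), if_neg (by omega)] at hle ⊢
    rcases h'.sizes with ⟨h1, -⟩ | ⟨h1, -⟩ | ⟨h1, h2⟩ <;> omega

theorem IsOpt.exists_conj : ∀ (n : ℕ) (s t : Finset α) (A B : Subgroup (Perm α)), s.card = n → t.card = n →
    IsOpt s A → IsOpt t B → ∃ σ : Perm α, (∀ z, σ z ∈ t ↔ z ∈ s) ∧ ∀ g ∈ A, σ * g * σ⁻¹ ∈ B := by
  intro n
  induction n using Nat.strong_induction_on with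
  | _ n ih =>
    intro s t A B hs ht hA hB
    rcases Nat.lt_or_ge n 3 with hn | hn
    · let f : {z // z ∈ s} ≃ {z // z ∈ t} := Fintype.equivOfCardEq (by simp [hs, ht])
      refine ⟨f.extendSubtype, fun z => ⟨fun h => ?_, fun h => f.extendSubtype_mem z h⟩, fun g hg => ?_⟩
      · by_contra hz; exact f.extendSubtype_not_mem z hz h
      · have h1 : Nat.card A = 1 := by
          rw [hA.card_eq, hs]; interval_cases n <;> rfl
        rw [Subgroup.eq_bot_of_card_eq A h1, Subgroup.mem_bot] at hg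
        rw [hg, mul_one, mul_inv_cancel]
        exact B.one_mem
    obtain ⟨x, hx, hax⟩ := IsOpt.exists_special n s A hs hn hA
    obtain ⟨y, hy, hby⟩ := IsOpt.exists_special n t B ht hn hB
    have hSA := hA.step (by omega) hx
    have hSB := hB.step (by omega) hy
    have hsA := hA.toIsEvAb.toIsAb.card_sdiff_orb hx
    have hsB := hB.toIsEvAb.toIsAb.card_sdiff_orb hy
    have hpos : 0 < (orb A x).card := Finset.card_pos.mpr ⟨x, self_mem_orb A x⟩
    obtain ⟨σ', hσ', hconj⟩ := ih _ (by omega) (s \ orb A x) (t \ orb B y) (stab A x) (stab B y) rfl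
      (by omega) hSA.opt hSB.opt
    obtain ⟨bA, hbA⟩ := hSA.exists_bij hA
    obtain ⟨bB, hbB⟩ := hSB.exists_bij hB
    obtain ⟨e⟩ := hSA.nonempty_equiv hA hB hSB (hax.trans hby.symm)
    let f : {z // z ∈ s} → {z // z ∈ t} := fun z =>
      if h : z.1 ∈ orb A x then ⟨(bB (e (bA.symm ⟨z.1, h⟩))).1, hB.toIsEvAb.toIsAb.orb_subset hy (bB _).2⟩
      else ⟨σ' z.1, (Finset.mem_sdiff.mp ((hσ' z.1).mpr (Finset.mem_sdiff.mpr ⟨z.2, h⟩))).1⟩
    have hf : Function.Injective f := by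
      intro z w hzw
      have hzw' := congrArg Subtype.val hzw
      simp only [f] at hzw'
      split_ifs at hzw' with h1 h2 h2
      · have := bA.symm.injective (e.injective (bB.injective (Subtype.ext hzw')))
        exact Subtype.ext (Subtype.mk.inj this)
      · have hm := (bB (e (bA.symm ⟨z.1, h1⟩))).2
        rw [show (bB (e (bA.symm ⟨z.1, h1⟩))).1 = σ' w.1 from hzw'] at hm
        exact absurd hm (Finset.mem_sdiff.mp ((hσ' w.1).mpr (Finset.mem_sdiff.mpr ⟨w.2, h2⟩))).2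
      · have hm := (bB (e (bA.symm ⟨w.1, h2⟩))).2
        rw [show (bB (e (bA.symm ⟨w.1, h2⟩))).1 = σ' z.1 from hzw'.symm] at hm
        exact absurd hm (Finset.mem_sdiff.mp ((hσ' z.1).mpr (Finset.mem_sdiff.mpr ⟨z.2, h1⟩))).2
      · exact Subtype.ext (σ'.injective hzw')
    let F := Equiv.ofBijective f (hf.bijective_of_nat_card_le (by simp [hs, ht]))
    let σ := F.extendSubtype
    have hin : ∀ k : kerOrb A x, σ (k.1 x) = (e k).1 y := fun k => by
      have hk : k.1 x ∈ orb A x := mem_orb.mpr ⟨k.1, (mem_kerOrb.mp k.2).1, rfl⟩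
      show F.extendSubtype (k.1 x) = _
      rw [F.extendSubtype_apply_of_mem _ (hA.toIsEvAb.toIsAb.orb_subset hx hk)]
      show (f _).1 = _
      simp only [f, dif_pos hk]
      rw [hbB, show bA.symm ⟨k.1 x, hk⟩ = k from bA.symm_apply_eq.mpr (Subtype.ext (hbA k).symm)]
    have hmid : ∀ z ∈ s, z ∉ orb A x → σ z = σ' z := fun z hz hz' => by
      show F.extendSubtype z = _
      rw [F.extendSubtype_apply_of_mem _ hz]
      show (f _).1 = _
      simp only [f, dif_neg hz']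
    have hiff : ∀ z, σ z ∈ t ↔ z ∈ s := fun z =>
      ⟨fun h => by_contra fun hz => F.extendSubtype_not_mem z hz h, fun h => F.extendSubtype_mem z h⟩
    have hcase : ∀ z, (∃ k : kerOrb A x, z = k.1 x) ∨ (z ∉ orb A x ∧ σ z ∉ orb B y) := by
      intro z
      by_cases hz : z ∈ orb A x
      · exact Or.inl ⟨bA.symm ⟨z, hz⟩, by rw [← hbA]; simp⟩
      · refine Or.inr ⟨hz, fun h => ?_⟩
        have hzs : z ∈ s := (hiff z).mp (hB.toIsEvAb.toIsAb.orb_subset hy h)
        rw [hmid z hzs hz] at h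
        exact (Finset.mem_sdiff.mp ((hσ' z).mpr (Finset.mem_sdiff.mpr ⟨hzs, hz⟩))).2 h
    refine ⟨σ, hiff, fun g hg => ?_⟩
    obtain ⟨k, hk, r, hr, rfl⟩ := hSA.decomp g hg
    have h1 : σ * k = (e ⟨k, hk⟩).1 * σ := by
      ext z
      rw [Perm.mul_apply, Perm.mul_apply]
      rcases hcase z with ⟨l, rfl⟩ | ⟨hz, hσz⟩
      · rw [← Perm.mul_apply k l.1 x, show k * l.1 = ((⟨k, hk⟩ * l : kerOrb A x) : Perm α) from rfl, hin, hin,
          map_mul, Subgroup.coe_mul, Perm.mul_apply]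
      · rw [(mem_kerOrb.mp hk).2 z hz, (mem_kerOrb.mp (e ⟨k, hk⟩).2).2 _ hσz]
    have hr' := hconj r hr
    have h2 : σ * r = (σ' * r * σ'⁻¹) * σ := by
      ext z
      rw [Perm.mul_apply σ r z, Perm.mul_apply (σ' * r * σ'⁻¹) σ z]
      rcases hcase z with ⟨l, rfl⟩ | ⟨hz, hσz⟩
      · have hl : l.1 x ∈ orb A x := mem_orb.mpr ⟨l.1, (mem_kerOrb.mp l.2).1, rfl⟩
        rw [hA.toIsEvAb.toIsAb.fix_orb hr hl, hin]
        refine (hSB.opt.toIsEvAb.toIsAb.supp _ hr' _ fun h => (Finset.mem_sdiff.mp h).2 ?_).symm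
        exact mem_orb.mpr ⟨_, (mem_kerOrb.mp (e l).2).1, rfl⟩
      · by_cases hzs : z ∈ s
        · rw [hmid _ ((hA.toIsEvAb.toIsAb.apply_mem_iff hr.1).mpr hzs) fun h => hz ((apply_mem_orb_iff hr.1).mp h),
            hmid z hzs hz, Perm.mul_apply, Perm.mul_apply]
          simp
        · rw [hA.toIsEvAb.toIsAb.supp r hr.1 z hzs]
          exact (hSB.opt.toIsEvAb.toIsAb.supp _ hr' _ fun h => hzs ((hiff z).mp (Finset.mem_sdiff.mp h).1)).symm
    rw [← mul_assoc, h1, mul_assoc (e ⟨k, hk⟩).1, h2, ← mul_assoc, mul_inv_cancel_right]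
    exact B.mul_mem (mem_kerOrb.mp (e ⟨k, hk⟩).2).1 hr'.1

end Cfsg.Agent.PermGp.AbelianPerm
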