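import Cfsg.Agent.Lib.PermGp.AbelianPerm.Bound
import Mathlib.GroupTheory.Perm.Fin
import Mathlib.GroupTheory.SpecificGroups.Alternating
import Mathlib.Data.ZMod.Basic

/-!
# Abelian permutation groups of extremal order
-/

set_option autoImplicit false

namespace Cfsg.Agent.PermGp.AbelianPerm

open Equiv

/-- `S n` has an abelian subgroup of order `c`, inside `A n` if `b`. -/
def HasAb (b : Bool) (n c : ℕ) : Prop :=
  ∃ A : Subgroup (Perm (Fin n)), (∀ g ∈ A, ∀ h ∈ A, g * h = h * g) ∧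
    (b = true → ∀ g ∈ A, Perm.sign g = 1) ∧ Nat.card A = c

theorem hasAb_one (b : Bool) (n : ℕ) : HasAb b n 1 :=
  ⟨⊥, fun g hg h hh => by rw [Subgroup.mem_bot.mp hg, Subgroup.mem_bot.mp hh],
    fun _ g hg => by rw [Subgroup.mem_bot.mp hg, map_one], Subgroup.card_bot⟩

theorem HasAb.add {b : Bool} {n m c d : ℕ} (h₁ : HasAb b n c) (h₂ : HasAb b m d) :
    HasAb b (n + m) (c * d) := by
  obtain ⟨A, hA, hA', rfl⟩ := h₁
  obtain ⟨B, hB, hB', rfl⟩ := h₂
  let φ : Perm (Fin n) × Perm (Fin m) →* Perm (Fin (n + m)) :=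
    (finSumFinEquiv.permCongrHom.toMonoidHom).comp (Perm.sumCongrHom (Fin n) (Fin m))
  have hφ : Function.Injective φ :=
    (finSumFinEquiv.permCongrHom.injective).comp Perm.sumCongrHom_injective
  refine ⟨(A.prod B).map φ, ?_, ?_, ?_⟩
  · rintro _ ⟨⟨a, c⟩, ⟨ha, hc⟩, rfl⟩ _ ⟨⟨a', c'⟩, ⟨ha', hc'⟩, rfl⟩
    rw [← map_mul, ← map_mul, Prod.mk_mul_mk, Prod.mk_mul_mk, hA a ha a' ha', hB c hc c' hc']
  · rintro hb _ ⟨⟨a, c⟩, ⟨ha, hc⟩, rfl⟩
    show Perm.sign (finSumFinEquiv.permCongr (Perm.sumCongr a c)) = 1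
    rw [Perm.sign_permCongr, Perm.sign_sumCongr, hA' hb a ha, hB' hb c hc, one_mul]
  · rw [Subgroup.card_map_of_injective hφ, Nat.card_congr (Subgroup.prodEquiv A B).toEquiv, Nat.card_prod]

theorem hasAb_cyclic {b : Bool} {n : ℕ} (σ : Perm (Fin n)) {c : ℕ} (hc : orderOf σ = c)
    (h : b = true → Perm.sign σ = 1) : HasAb b n c := by
  refine ⟨Subgroup.zpowers σ, fun g hg k hk => ?_, fun hb g hg => ?_, by rw [Nat.card_zpowers, hc]⟩
  · obtain ⟨i, rfl⟩ := hg
    obtain ⟨j, rfl⟩ := hk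
    exact zpow_mul_comm σ i j
  · obtain ⟨i, rfl⟩ := hg
    rw [map_zpow, h hb, one_zpow]

theorem hasAb_two : HasAb false 2 2 :=
  hasAb_cyclic (swap 0 1) (orderOf_eq_prime (by decide) (by decide)) (by simp)

theorem hasAb_three (b : Bool) : HasAb b 3 3 :=
  hasAb_cyclic (swap 0 1 * swap 1 2) (orderOf_eq_prime (by decide) (by decide)) (fun _ => by decide)

theorem hasAb_five (b : Bool) : HasAb b 5 5 :=
  hasAb_cyclic (swap 0 1 * swap 1 2 * swap 2 3 * swap 3 4)
    (by haveI : Fact (Nat.Prime 5) := ⟨by decide⟩; exact orderOf_eq_prime (by decide) (by decide))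
    (fun _ => by decide)

theorem hasAb_four (b : Bool) : HasAb b 4 4 := by
  let φ : Multiplicative (ZMod 2) × Multiplicative (ZMod 2) →* Perm (Fin 4) :=
    { toFun := fun p => (swap 0 1 * swap 2 3) ^ (Multiplicative.toAdd p.1).val *
        (swap 0 2 * swap 1 3) ^ (Multiplicative.toAdd p.2).val
      map_one' := by decide
      map_mul' := by decide }
  have hφ : Function.Injective φ := by
    intro p q
    revert p q
    decide
  refine ⟨φ.range, ?_, ?_, ?_⟩
  · rintro _ ⟨p, rfl⟩ _ ⟨q, rfl⟩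
    rw [← map_mul, ← map_mul, mul_comm]
  · rintro - _ ⟨p, rfl⟩
    revert p
    decide
  · rw [← Nat.card_congr (MonoidHom.ofInjective hφ).toEquiv]; simp

theorem hasAb_bigS : ∀ n, HasAb false n (bigS n)
  | 0 => hasAb_one _ _
  | 1 => hasAb_one _ _
  | 2 => hasAb_two
  | 3 => hasAb_three _
  | 4 => hasAb_four _
  | n + 5 => by
    have := (hasAb_three false).add (hasAb_bigS (n + 2))
    rwa [show 3 + (n + 2) = n + 5 by omega] at this

theorem hasAb_bigA : ∀ n, HasAb true n (bigA n)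
  | 0 => hasAb_one _ _
  | 1 => hasAb_one _ _
  | 2 => hasAb_one _ _
  | 3 => hasAb_three _
  | 4 => hasAb_four _
  | 5 => hasAb_five _
  | 6 => (hasAb_three true).add (hasAb_three true)
  | 7 => (hasAb_three true).add (hasAb_four true)
  | 8 => (hasAb_four true).add (hasAb_four true)
  | n + 9 => by
    have := (hasAb_three true).add (hasAb_bigA (n + 6))
    rwa [show 3 + (n + 6) = n + 9 by omega] at this

/-- The largest order of an abelian subgroup of `S n`. -/
theorem isGreatest_perm (n : ℕ) :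
    IsGreatest {c : ℕ | ∃ A : Subgroup (Perm (Fin n)), IsMulCommutative A ∧ Nat.card A = c} (bigS n) := by
  refine ⟨?_, ?_⟩
  · obtain ⟨A, hA, -, hc⟩ := hasAb_bigS n
    exact ⟨A, ⟨⟨fun a b => Subtype.ext (hA a a.2 b b.2)⟩⟩, hc⟩
  · rintro _ ⟨A, hA, rfl⟩
    refine card_le_bigS n Finset.univ A (Finset.card_fin n) ⟨fun g hg h hh => ?_, fun _ _ z hz => absurd (Finset.mem_univ z) hz⟩
    exact congrArg Subtype.val (hA.is_comm.comm ⟨g, hg⟩ ⟨h, hh⟩)

theorem isEvAb_map {n : ℕ} {A : Subgroup (alternatingGroup (Fin n))} (hA : IsMulCommutative A) :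
    IsEvAb Finset.univ (A.map (alternatingGroup (Fin n)).subtype) := by
  refine ⟨⟨?_, fun _ _ z hz => absurd (Finset.mem_univ z) hz⟩, ?_⟩
  · rintro _ ⟨g, hg, rfl⟩ _ ⟨h, hh, rfl⟩
    rw [← map_mul, ← map_mul]
    exact congrArg _ (congrArg Subtype.val (hA.is_comm.comm ⟨g, hg⟩ ⟨h, hh⟩))
  · rintro _ ⟨g, -, rfl⟩
    exact g.2

/-- The largest order of an abelian subgroup of `A n`. -/
theorem isGreatest_alternating (n : ℕ) :
    IsGreatest {c : ℕ | ∃ A : Subgroup (alternatingGroup (Fin n)), IsMulCommutative A ∧ Nat.card A = c}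
      (bigA n) := by
  refine ⟨?_, ?_⟩
  · obtain ⟨A, hA, hA', hc⟩ := hasAb_bigA n
    refine ⟨A.subgroupOf (alternatingGroup (Fin n)),
      ⟨⟨fun a b => Subtype.ext (Subtype.ext (hA a.1.1 a.2 b.1.1 b.2))⟩⟩, ?_⟩
    rw [← hc]
    exact Nat.card_congr (Subgroup.subgroupOfEquivOfLe fun g hg => Perm.mem_alternatingGroup.mpr (hA' rfl g hg)).toEquiv
  · rintro _ ⟨A, hA, rfl⟩
    rw [← Subgroup.card_map_of_injective (f := (alternatingGroup (Fin n)).subtype) Subtype.val_injective]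
    exact card_le_bigA n Finset.univ _ (Finset.card_fin n) (isEvAb_map hA)

end Cfsg.Agent.PermGp.AbelianPerm
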